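import Groth.Prelude.Def_WeilCoh
import Groth.Agent.Lib.PointDim.Basic
import Groth.Agent.Lib.ProjSpace.BaseChange
import Mathlib.AlgebraicGeometry.Morphisms.Proper
import Mathlib.AlgebraicGeometry.Morphisms.ClosedImmersion
import Mathlib.LinearAlgebra.FreeModule.Finite.Basic

/-!
# Geometry of the objects of `WeilCoh.Var k`

The point `ptVar k`, properness, closed points, `pdim = trdeg`, residue degrees of composites and
sections.
-/

universe u

open CategoryTheory AlgebraicGeometry TopologicalSpace

noncomputable section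

namespace Groth.Agent.Lib.WeilCoh.Geometry

open Groth.Agent.Lib.PointDim.Basic

variable {k : Type u} [Field k]

instance isProper_hom (X : _root_.WeilCoh.Var k) : IsProper X.obj.hom := by
  obtain ⟨n, i, hi, h⟩ := X.property.2.1
  rw [← h]
  have := Groth.Agent.Lib.ProjSpace.BaseChange.isProper_toBase n (Spec (CommRingCat.of k))
  exact MorphismProperty.comp_mem @IsProper _ _ inferInstance inferInstance

instance smooth_hom (X : _root_.WeilCoh.Var k) : Smooth X.obj.hom := X.property.1

instance irreducibleSpace_left (X : _root_.WeilCoh.Var k) : IrreducibleSpace ↥X.obj.left := X.property.2.2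

theorem sm_comp {X Y Z : _root_.WeilCoh.Var k} (f : X ⟶ Y) (g : Y ⟶ Z) :
    _root_.WeilCoh.sm (f ≫ g) = _root_.WeilCoh.sm f ≫ _root_.WeilCoh.sm g := rfl

theorem sm_id (X : _root_.WeilCoh.Var k) : _root_.WeilCoh.sm (𝟙 X) = 𝟙 _ := rfl

theorem sm_comp_hom {X Y : _root_.WeilCoh.Var k} (f : X ⟶ Y) :
    _root_.WeilCoh.sm f ≫ Y.obj.hom = X.obj.hom := Over.w f.hom

instance isProper_sm {X Y : _root_.WeilCoh.Var k} (f : X ⟶ Y) : IsProper (_root_.WeilCoh.sm f) := by
  have : IsProper (_root_.WeilCoh.sm f ≫ Y.obj.hom) := by rw [sm_comp_hom]; infer_instance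
  exact IsProper.of_comp _ Y.obj.hom

/-- A section of a morphism of varieties is a closed immersion. -/
theorem isClosedImmersion_of_section {X Y : _root_.WeilCoh.Var k} (j : X ⟶ Y) (p : Y ⟶ X)
    (h : j ≫ p = 𝟙 X) : IsClosedImmersion (_root_.WeilCoh.sm j) := by
  have h' : _root_.WeilCoh.sm j ≫ _root_.WeilCoh.sm p = 𝟙 _ := by rw [← sm_comp, h, sm_id]
  have : IsClosedImmersion (_root_.WeilCoh.sm j ≫ _root_.WeilCoh.sm p) := by rw [h']; infer_instance
  exact IsClosedImmersion.of_comp _ (_root_.WeilCoh.sm p)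

variable (k) in
/-- `Spec k` as an object of `Var k`. -/
def ptVar : _root_.WeilCoh.Var k where
  obj := Over.mk (𝟙 (Spec (CommRingCat.of k)))
  property := by
    refine ⟨inferInstanceAs (Smooth (𝟙 _)), ⟨0, ?_⟩, ?_⟩
    · have := Groth.Agent.Lib.ProjSpace.Dim.isIso_toSpec_zero k
      refine ⟨(asIso (CohB1.ProjSpace.toSpec 0 k)).inv ≫
        (Groth.Agent.Lib.ProjSpace.BaseChange.overSpecIso 0 k).inv, inferInstance, ?_⟩
      rw [Category.assoc, Groth.Agent.Lib.ProjSpace.BaseChange.overSpecIso_inv_toBase]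
      exact (asIso (CohB1.ProjSpace.toSpec 0 k)).inv_hom_id
    · exact inferInstanceAs (IrreducibleSpace ↥(Spec (CommRingCat.of k)))

instance subsingleton_ptVar : Subsingleton ↥(ptVar k).obj.left :=
  inferInstanceAs (Subsingleton (PrimeSpectrum k))

/-- The unique point of `Spec k`. -/
def ptPoint : (ptVar k).obj.left := IsLocalRing.closedPoint k

/-- The structure morphism to the point. -/
def toPt (X : _root_.WeilCoh.Var k) : X ⟶ ptVar k :=
  ObjectProperty.homMk (Over.homMk X.obj.hom (Category.comp_id _))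

theorem sm_toPt (X : _root_.WeilCoh.Var k) : _root_.WeilCoh.sm (toPt X) = X.obj.hom := rfl

theorem dim_ptVar : _root_.WeilCoh.dim (ptVar k).obj.left = 0 := by
  have h : topologicalKrullDim ↥(ptVar k).obj.left ≤ 0 := topologicalKrullDim_zero_of_discreteTopology _
  unfold _root_.WeilCoh.dim _root_.WeilCoh.natDim
  generalize topologicalKrullDim ↥(ptVar k).obj.left = d at h
  induction d using WithBot.recBotCoe with
  | bot => rfl
  | coe a =>
    have : a = 0 := nonpos_iff_eq_zero.mp (WithBot.coe_le_coe.mp h)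
    subst this; rfl

/-- The morphism from the point at a closed point. -/
def ofClosedPoint [IsAlgClosed k] (X : _root_.WeilCoh.Var k) (x : X.obj.left)
    (hx : IsClosed ({x} : Set X.obj.left)) : ptVar k ⟶ X :=
  ObjectProperty.homMk
    (Over.homMk (pointOfClosedPoint X.obj.hom x hx) (pointOfClosedPoint_comp X.obj.hom x hx))

theorem sm_ofClosedPoint_apply [IsAlgClosed k] (X : _root_.WeilCoh.Var k) (x : X.obj.left)
    (hx : IsClosed ({x} : Set X.obj.left)) (a : (ptVar k).obj.left) :
    _root_.WeilCoh.sm (ofClosedPoint X x hx) a = x :=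
  pointOfClosedPoint_apply X.obj.hom x hx a

/-! ### Dimensions -/

theorem natDim_congr {A B : Type u} [TopologicalSpace A] [TopologicalSpace B] (e : A ≃ₜ B) :
    _root_.WeilCoh.natDim A = _root_.WeilCoh.natDim B := by
  unfold _root_.WeilCoh.natDim
  rw [IsHomeomorph.topologicalKrullDim_eq e e.isHomeomorph]

theorem pdim_eq_natTdeg (X : _root_.WeilCoh.Var k) (x : X.obj.left) :
    _root_.WeilCoh.pdim X.obj.left x = natTdeg X.obj.hom x := by
  unfold _root_.WeilCoh.pdim _root_.WeilCoh.natDim
  rw [topologicalKrullDim_closure_singleton X.obj.hom x]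
  rfl

theorem pdim_eq_of_residueDegree_ne_zero {X Y : _root_.WeilCoh.Var k} (f : X ⟶ Y) (x : X.obj.left)
    (h : (_root_.WeilCoh.sm f).residueDegree x ≠ 0) :
    _root_.WeilCoh.pdim X.obj.left x = _root_.WeilCoh.pdim Y.obj.left (_root_.WeilCoh.sm f x) := by
  rw [pdim_eq_natTdeg, pdim_eq_natTdeg]
  exact natTdeg_eq_of_residueDegree_ne_zero (_root_.WeilCoh.sm f) Y.obj.hom X.obj.hom (sm_comp_hom f) x h

theorem dim_eq_pdim_genericPoint (X : _root_.WeilCoh.Var k) [IrreducibleSpace ↥X.obj.left] :
    _root_.WeilCoh.dim X.obj.left = _root_.WeilCoh.pdim X.obj.left (genericPoint ↥X.obj.left) := by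
  unfold _root_.WeilCoh.dim _root_.WeilCoh.pdim
  rw [genericPoint_closure]
  exact (natDim_congr (Homeomorph.Set.univ _)).symm

theorem pdim_le_dim (X : _root_.WeilCoh.Var k) (x : X.obj.left) :
    _root_.WeilCoh.pdim X.obj.left x ≤ _root_.WeilCoh.dim X.obj.left := by
  rw [dim_eq_pdim_genericPoint, pdim_eq_natTdeg, pdim_eq_natTdeg]
  have h := topologicalKrullDim_closure_singleton X.obj.hom x
  have h' := topologicalKrullDim_closure_singleton X.obj.hom (genericPoint ↥X.obj.left)
  have hsub : closure ({x} : Set X.obj.left) ⊆ closure {genericPoint ↥X.obj.left} := by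
    rw [genericPoint_closure]; exact Set.subset_univ _
  have hle : topologicalKrullDim ↥(closure ({x} : Set X.obj.left)) ≤
      topologicalKrullDim ↥(closure ({genericPoint ↥X.obj.left} : Set X.obj.left)) :=
    (Topology.IsEmbedding.inclusion hsub).isInducing.topologicalKrullDim_le
  rw [h, h'] at hle
  exact_mod_cast hle

theorem codim_add_pdim (X : _root_.WeilCoh.Var k) (x : X.obj.left) :
    (_root_.WeilCoh.codim X.obj.left x : ℤ) + _root_.WeilCoh.pdim X.obj.left x =
      _root_.WeilCoh.dim X.obj.left := by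
  have := pdim_le_dim X x
  unfold _root_.WeilCoh.codim
  omega

theorem pdim_closedImmersion {X Y : _root_.WeilCoh.Var k} (j : X ⟶ Y)
    [IsClosedImmersion (_root_.WeilCoh.sm j)] (x : X.obj.left) :
    _root_.WeilCoh.pdim Y.obj.left (_root_.WeilCoh.sm j x) = _root_.WeilCoh.pdim X.obj.left x := by
  unfold _root_.WeilCoh.pdim
  have hce := (_root_.WeilCoh.sm j).isClosedEmbedding
  rw [← Set.image_singleton, hce.closure_image_eq]
  exact (natDim_congr (hce.isEmbedding.homeomorphImage _)).symm

theorem pdim_eq_zero_of_isClosed (X : _root_.WeilCoh.Var k) (x : X.obj.left)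
    (hx : IsClosed ({x} : Set X.obj.left)) : _root_.WeilCoh.pdim X.obj.left x = 0 := by
  rw [pdim_eq_natTdeg, (isClosed_iff_natTdeg_eq_zero X.obj.hom x).mp hx]

theorem exists_isClosed_singleton (X : _root_.WeilCoh.Var k) :
    ∃ x : X.obj.left, IsClosed ({x} : Set X.obj.left) := by
  have : CompactSpace ↥X.obj.left :=
    (quasiCompact_iff_compactSpace X.obj.hom).mp inferInstance
  obtain ⟨z, -, hz⟩ := IsClosed.exists_closed_singleton (X := X.obj.left) isClosed_univ
    Set.univ_nonempty
  exact ⟨z, hz⟩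

/-! ### Residue degrees -/

theorem residueDegree_comp {X Y Z : Scheme.{u}} (f : X ⟶ Y) (g : Y ⟶ Z) (x : X) :
    (f ≫ g).residueDegree x = g.residueDegree (f x) * f.residueDegree x := by
  unfold Scheme.Hom.residueDegree
  let : Algebra (Z.residueField (g (f x))) (Y.residueField (f x)) :=
    (g.residueFieldMap (f x)).hom.toAlgebra
  let : Algebra (Y.residueField (f x)) (X.residueField x) := (f.residueFieldMap x).hom.toAlgebra
  let : Algebra (Z.residueField (g (f x))) (X.residueField x) :=
    ((f ≫ g).residueFieldMap x).hom.toAlgebra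
  have : IsScalarTower (Z.residueField (g (f x))) (Y.residueField (f x)) (X.residueField x) :=
    IsScalarTower.of_algebraMap_eq fun a =>
      congr($(Scheme.residueFieldMap_comp f g x).hom a)
  exact (Module.finrank_mul_finrank (Z.residueField (g (f x))) (Y.residueField (f x))
    (X.residueField x)).symm

theorem residueDegree_congr {X Y : Scheme.{u}} {f g : X ⟶ Y} (e : f = g) (x : X) :
    f.residueDegree x = g.residueDegree x := by subst e; rfl

theorem residueDegree_section {X Y : _root_.WeilCoh.Var k} (j : X ⟶ Y) (p : Y ⟶ X)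
    (h : j ≫ p = 𝟙 X) (x : X.obj.left) : (_root_.WeilCoh.sm j).residueDegree x = 1 := by
  have h' : _root_.WeilCoh.sm j ≫ _root_.WeilCoh.sm p = 𝟙 _ := by rw [← sm_comp, h, sm_id]
  have := residueDegree_comp (_root_.WeilCoh.sm j) (_root_.WeilCoh.sm p) x
  rw [residueDegree_congr h', Scheme.Hom.residueDegree_id] at this
  exact Nat.eq_one_of_mul_eq_one_left this.symm

end Groth.Agent.Lib.WeilCoh.Geometry
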