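import Groth.Agent.Lib.WeilCoh.Formal
import Groth.Agent.Lib.WeilCoh.Geometry
import Mathlib.RingTheory.Length
import Mathlib.Topology.LocallyFinsupp.Pushforward

/-!
# Classes of points, graphs and cycles in a Weil cohomology theory
-/

set_option linter.unusedSectionVars false

universe u v

open CategoryTheory AlgebraicGeometry

noncomputable section

namespace Groth.Agent.Lib.WeilCoh.Classes

open Groth.Agent.Lib.WeilCoh.Formal Groth.Agent.Lib.WeilCoh.Geometry

variable {k : Type u} [Field k] [IsAlgClosed k] {K : Type v} [Field K] [CharZero K]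
variable (T : _root_.WeilCoh.Theory k K) {X Y Z : _root_.WeilCoh.Var k}

/-- The trace of a class of a closed point is `1`. -/
theorem tr_cl_of_isClosed (X : _root_.WeilCoh.Var k) (x : X.obj.left)
    (hx : IsClosed ({x} : Set X.obj.left)) : T.tr X (T.cl X x) = 1 := by
  have h := T.cl_push (toPt X) x 1 (by
    rw [pdim_eq_zero_of_isClosed X x hx]; exact one_mem T (ptVar k))
  rw [map_one, mul_one] at h
  obtain ⟨hc, ht⟩ := T.point (ptVar k) dim_ptVar
  rw [h, hc, mul_one, ht, mul_one]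
  erw [Groth.Agent.Lib.PointDim.Basic.residueDegree_of_isClosed X.obj.hom x hx, Nat.cast_one]

theorem cl_mem_of_eq (ξ : X.obj.left) {c : ℤ}
    (h : 2 * (_root_.WeilCoh.dim X.obj.left : ℤ) - 2 * _root_.WeilCoh.pdim X.obj.left ξ = c) :
    T.cl X ξ ∈ T.gr X c := by
  refine cast_mem T (T.cl_mem X ξ) ?_
  have := codim_add_pdim X ξ
  omega

theorem cl_mem_top_of_isClosed (x : X.obj.left) (hx : IsClosed ({x} : Set X.obj.left)) :
    T.cl X x ∈ T.gr X (2 * (_root_.WeilCoh.dim X.obj.left : ℤ)) :=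
  cl_mem_of_eq T x (by rw [pdim_eq_zero_of_isClosed X x hx]; simp)

/-- The class of the whole variety is `1`. -/
theorem cl_genericPoint (X : _root_.WeilCoh.Var k) [IrreducibleSpace ↥X.obj.left] :
    T.cl X (genericPoint ↥X.obj.left) = 1 := by
  obtain ⟨x, hx⟩ := exists_isClosed_singleton X
  set η := genericPoint ↥X.obj.left
  have hη : T.cl X η ∈ T.gr X 0 :=
    cl_mem_of_eq T η (by rw [← dim_eq_pdim_genericPoint]; omega)
  obtain ⟨c, hc⟩ := exists_smul_one T hη
  set f := ofClosedPoint X x hx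
  have hcl : closure ({η} : Set X.obj.left) = Set.univ := genericPoint_closure _
  have hmem : ∀ w : (ptVar k).obj.left,
      _root_.WeilCoh.IsCompPt ((_root_.WeilCoh.sm f) ⁻¹' closure ({η} : Set X.obj.left)) w := fun w =>
    ⟨by rw [hcl]; trivial, fun w' _ _ => Subsingleton.elim _ _⟩
  have hmult : ∀ (w : (ptVar k).obj.left) (hw : _root_.WeilCoh.sm f w ∈ closure ({η} : Set X.obj.left)),
      _root_.WeilCoh.preimMult (_root_.WeilCoh.sm f) η w hw = 1 := by
    intro w hw
    unfold _root_.WeilCoh.preimMult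
    have hint : AlgebraicGeometry.IsIntegral (ptVar k).obj.left :=
      inferInstanceAs (AlgebraicGeometry.IsIntegral (Spec (CommRingCat.of k)))
    have hfield : IsField ((ptVar k).obj.left.presheaf.stalk w) := by
      obtain rfl : w = genericPoint (ptVar k).obj.left := Subsingleton.elim _ _
      exact (inferInstance : Field (ptVar k).obj.left.functionField).toIsField
    have hI : ∀ J : Ideal (X.obj.left.presheaf.stalk (_root_.WeilCoh.sm f w)), J ≠ ⊤ →
        J.map ((_root_.WeilCoh.sm f).stalkMap w).hom = ⊥ := by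
      intro J hJ
      refine le_bot_iff.mp ((Ideal.map_mono (IsLocalRing.le_maximalIdeal hJ)).trans ?_)
      rw [← (IsLocalRing.isField_iff_maximalIdeal_eq).mp hfield]
      exact ((IsLocalRing.local_hom_TFAE ((_root_.WeilCoh.sm f).stalkMap w).hom).out 0 2).mp (show IsLocalHom ((_root_.WeilCoh.sm f).stalkMap w).hom from inferInstance)
    rw [hI _ (RingHom.ker_ne_top _)]
    have : IsSimpleModule ((ptVar k).obj.left.presheaf.stalk w)
        ((ptVar k).obj.left.presheaf.stalk w ⧸ (⊥ : Ideal ((ptVar k).obj.left.presheaf.stalk w))) := by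
      let := hfield.toField
      exact IsSimpleModule.congr (Submodule.quotEquivOfEqBot _ rfl)
    rw [Module.length_eq_one]
    rfl
  have hpull := T.cl_pull f η (fun w _ => by
      rw [pdim_eq_zero_of_isClosed _ w (Set.subsingleton_of_subsingleton.isClosed),
        ← dim_eq_pdim_genericPoint, dim_ptVar]
      omega) (Or.inr fun w hw => hmult w hw.1)
  have : Subsingleton {w : (ptVar k).obj.left //
      _root_.WeilCoh.IsCompPt ((_root_.WeilCoh.sm f) ⁻¹' closure ({η} : Set X.obj.left)) w} :=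
    ⟨fun a b => Subtype.ext (Subsingleton.elim _ _)⟩
  rw [finsum_eq_single _ ⟨ptPoint, hmem _⟩ (fun a ha => absurd (Subsingleton.elim _ _) ha),
    hmult, Nat.cast_one, one_smul, (T.point (ptVar k) dim_ptVar).1, hc, map_smul, map_one] at hpull
  have : c = 1 := smul_one_injective T (ptVar k) (by simpa using hpull)
  rw [hc, this, one_smul]

theorem tr_pull_eq (f : X ⟶ Y) [IrreducibleSpace ↥X.obj.left] (a : T.H Y)
    (ha : a ∈ T.gr Y (2 * (_root_.WeilCoh.dim X.obj.left : ℤ))) :
    T.tr X (T.pull f a) =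
      ((_root_.WeilCoh.sm f).residueDegree (genericPoint ↥X.obj.left) : K) *
        T.tr Y (T.cl Y (_root_.WeilCoh.sm f (genericPoint ↥X.obj.left)) * a) := by
  have h := T.cl_push f (genericPoint ↥X.obj.left) a (by rwa [← dim_eq_pdim_genericPoint])
  rwa [cl_genericPoint T X, one_mul] at h

/-- The push-forward identity for all classes at once. -/
theorem tr_cl_mul_pull (f : X ⟶ Y) (ξ : X.obj.left) (a : T.H Y) :
    T.tr X (T.cl X ξ * T.pull f a) =
      ((_root_.WeilCoh.sm f).residueDegree ξ : K) * T.tr Y (T.cl Y (_root_.WeilCoh.sm f ξ) * a) := by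
  refine LinearMap.congr_fun (hom_ext T (φ := (T.tr X).comp ((LinearMap.mulLeft K (T.cl X ξ)).comp
    (T.pull f).toLinearMap)) (ψ := ((_root_.WeilCoh.sm f).residueDegree ξ : K) •
      (T.tr Y).comp (LinearMap.mulLeft K (T.cl Y (_root_.WeilCoh.sm f ξ)))) fun i b hb => ?_) a
  show T.tr X (T.cl X ξ * T.pull f b) =
    ((_root_.WeilCoh.sm f).residueDegree ξ : K) * T.tr Y (T.cl Y (_root_.WeilCoh.sm f ξ) * b)
  by_cases hi : i = 2 * (_root_.WeilCoh.pdim X.obj.left ξ : ℤ)
  · exact T.cl_push f ξ b (hi ▸ hb)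
  have hc := codim_add_pdim X ξ
  rw [T.tr_vanish X _ _ (mul_mem T (T.cl_mem X ξ) (T.pull_mem f i b hb)) (by omega)]
  by_cases h0 : (_root_.WeilCoh.sm f).residueDegree ξ = 0
  · simp [h0]
  have hp := pdim_eq_of_residueDegree_ne_zero f ξ h0
  have hc' := codim_add_pdim Y (_root_.WeilCoh.sm f ξ)
  rw [T.tr_vanish Y _ _ (mul_mem T (T.cl_mem Y _) hb) (by omega), mul_zero]

/-- The push-forward of the class of `Z` is `deg (Z/f Z)` times the class of `f Z`. -/
theorem push_cl (f : X ⟶ Y) (ξ : X.obj.left) :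
    (T.push f (2 * (_root_.WeilCoh.codim X.obj.left ξ : ℤ)) ⟨T.cl X ξ, T.cl_mem X ξ⟩ : T.H Y) =
      ((_root_.WeilCoh.sm f).residueDegree ξ : K) • T.cl Y (_root_.WeilCoh.sm f ξ) := by
  refine push_eq_of_forall T f _ _ ?_ fun b hb => ?_
  · by_cases h0 : (_root_.WeilCoh.sm f).residueDegree ξ = 0
    · simp [h0]
    refine Submodule.smul_mem _ _ (cl_mem_of_eq T _ ?_)
    have := pdim_eq_of_residueDegree_ne_zero f ξ h0
    have := codim_add_pdim X ξ
    omega
  · rw [smul_mul_assoc, map_smul, smul_eq_mul]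
    exact (tr_cl_mul_pull T f ξ b).symm

/-- The defining property of the class of a section `j` (for example a graph). -/
theorem tr_cl_section_mul {P : _root_.WeilCoh.Var k} (j : X ⟶ P) (p : P ⟶ X) (h : j ≫ p = 𝟙 X)
    (η : X.obj.left) (a : T.H P) :
    T.tr P (T.cl P (_root_.WeilCoh.sm j η) * a) = T.tr X (T.cl X η * T.pull j a) := by
  rw [tr_cl_mul_pull, residueDegree_section j p h, Nat.cast_one, one_mul]

/-- Likewise, for the class of the image of the generic point. -/
theorem tr_cl_graph_mul {P : _root_.WeilCoh.Var k} [IrreducibleSpace ↥X.obj.left] (j : X ⟶ P)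
    (p : P ⟶ X) (h : j ≫ p = 𝟙 X) (a : T.H P) :
    T.tr P (T.cl P (_root_.WeilCoh.sm j (genericPoint ↥X.obj.left)) * a) = T.tr X (T.pull j a) := by
  rw [tr_cl_section_mul T j p h, cl_genericPoint, one_mul]

theorem codim_section {P : _root_.WeilCoh.Var k} (j : X ⟶ P) (p : P ⟶ X) (h : j ≫ p = 𝟙 X)
    (η : X.obj.left) :
    (_root_.WeilCoh.codim P.obj.left (_root_.WeilCoh.sm j η) : ℤ) +
      _root_.WeilCoh.pdim X.obj.left η = _root_.WeilCoh.dim P.obj.left := by
  have := isClosedImmersion_of_section j p h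
  rw [← pdim_closedImmersion j η]
  exact codim_add_pdim P _

theorem pull_comp_apply {X Y Z : _root_.WeilCoh.Var k} (f : X ⟶ Y) (g : Y ⟶ Z) (a : T.H Z) :
    T.pull f (T.pull g a) = T.pull (f ≫ g) a := by
  rw [T.pull_comp]; rfl

theorem pull_pull_eq {X Y Z : _root_.WeilCoh.Var k} (f : X ⟶ Y) (g : Y ⟶ Z) {h : X ⟶ Z}
    (e : f ≫ g = h) (a : T.H Z) : T.pull f (T.pull g a) = T.pull h a := by
  rw [pull_comp_apply, e]

theorem pull_id_apply (X : _root_.WeilCoh.Var k) (a : T.H X) : T.pull (𝟙 X) a = a := by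
  rw [T.pull_id]; rfl

/-! ### Cycles -/

theorem finite_support (α : AlgebraicCycle X.obj.left ℤ) : (Function.support ⇑α).Finite := by
  have : CompactSpace ↥X.obj.left :=
    (quasiCompact_iff_compactSpace X.obj.hom).mp inferInstance
  simpa using α.locallyFiniteSupport.finite_inter_support_of_isCompact isCompact_univ

theorem clCyc_eq_sum (α : AlgebraicCycle X.obj.left ℤ) (s : Finset X.obj.left)
    (hs : Function.support ⇑α ⊆ ↑s) : T.clCyc X α = ∑ ξ ∈ s, ((α ξ : ℤ) : K) • T.cl X ξ := by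
  refine finsum_eq_sum_of_support_subset _ fun ξ hξ => hs fun h0 => hξ ?_
  show ((α ξ : ℤ) : K) • T.cl X ξ = 0
  rw [show α ξ = 0 from h0, Int.cast_zero, zero_smul]

theorem map_apply_eq_sum {X Y : Scheme.{u}} (f : X ⟶ Y) [QuasiCompact f] (wx : X → ℤ) (wy : Y → ℤ)
    (α : AlgebraicCycle X ℤ) [DecidableEq Y] (s : Finset X) (hs : Function.support ⇑α ⊆ ↑s) (z : Y) :
    AlgebraicCycle.map f wx wy α z =
      ∑ x ∈ s.filter (fun x => f x = z), α x * (AlgebraicCycle.mapCoeff f wx wy x : ℤ) := by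
  refine finsum_mem_eq_sum_of_inter_support_eq _ ?_
  ext x
  simp only [Set.mem_inter_iff, Set.mem_preimage, Set.mem_singleton_iff, Function.mem_support,
    Finset.coe_filter, Set.mem_ofPred_eq]
  exact ⟨fun h => ⟨⟨hs (left_ne_zero_of_mul h.2), h.1⟩, h.2⟩, fun h => ⟨h.1.2, h.2⟩⟩

/-- Compatibility of the cycle class with push-forward. -/
theorem tr_clCyc_map_mul (f : X ⟶ Y) [QuasiCompact (_root_.WeilCoh.sm f)]
    (δX : ↥X.obj.left → ℤ) (hδX : Cyc.DeltaCompat X.obj.hom δX (fun _ => 0))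
    (δY : ↥Y.obj.left → ℤ) (hδY : Cyc.DeltaCompat Y.obj.hom δY (fun _ => 0))
    (α : AlgebraicCycle X.obj.left ℤ) (b : T.H Y) :
    T.tr Y (T.clCyc Y (AlgebraicCycle.map (_root_.WeilCoh.sm f) δX δY α) * b) =
      T.tr X (T.clCyc X α * T.pull f b) := by
  classical
  let s := (finite_support α).toFinset
  have hs : Function.support ⇑α ⊆ ↑s := by simp [s]
  let g := _root_.WeilCoh.sm f
  let t := s.image fun x => g x
  have ht : Function.support ⇑(AlgebraicCycle.map g δX δY α) ⊆ ↑t := by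
    intro z hz
    rw [Function.mem_support, map_apply_eq_sum g δX δY α s hs] at hz
    obtain ⟨x, hx, -⟩ := Finset.exists_ne_zero_of_sum_ne_zero hz
    rw [Finset.mem_filter] at hx
    exact Finset.mem_coe.mpr (Finset.mem_image.mpr ⟨x, hx.1, hx.2⟩)
  rw [clCyc_eq_sum T α s hs, clCyc_eq_sum T _ t ht]
  simp only [Finset.sum_mul, map_sum, smul_mul_assoc, map_smul, smul_eq_mul,
    map_apply_eq_sum g δX δY α s hs, Int.cast_sum, Int.cast_mul, Int.cast_natCast]
  rw [← Finset.sum_fiberwise_of_maps_to (g := fun x => g x) (t := t)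
    (fun x hx => Finset.mem_image_of_mem _ hx)]
  refine Finset.sum_congr rfl fun z _ => Finset.sum_congr rfl fun x hx => ?_
  rw [Finset.mem_filter] at hx
  rw [mul_assoc, ← hx.2, tr_cl_mul_pull T f x b]
  congr 2
  unfold AlgebraicCycle.mapCoeff
  split_ifs with h
  · rfl
  · rw [Groth.Agent.Lib.PointDim.Basic.delta_eq_natTdeg _ _ hδX,
      Groth.Agent.Lib.PointDim.Basic.delta_eq_natTdeg _ _ hδY] at h
    by_contra h0
    refine h (congrArg Nat.cast (Groth.Agent.Lib.PointDim.Basic.natTdeg_eq_of_residueDegree_ne_zero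
      g Y.obj.hom X.obj.hom (sm_comp_hom f) x fun h1 => h0 ?_))
    rw [h1]

/-- For a `0`-cycle, the trace of the class is the degree. -/
theorem deg_eq_tr [QuasiCompact X.obj.hom] (δ : ↥X.obj.left → ℤ)
    (hδ : Cyc.DeltaCompat X.obj.hom δ (fun _ => 0)) (α : AlgebraicCycle X.obj.left ℤ) :
    ((AlgebraicCycle.map X.obj.hom δ (fun _ => (0 : ℤ)) α (IsLocalRing.closedPoint k) : ℤ) : K) =
      T.tr X (T.clCyc X α) := by
  classical
  have hδ0 : Cyc.DeltaCompat (ptVar k).obj.hom (fun _ => (0 : ℤ)) (fun _ => 0) := fun x => by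
    refine ⟨0, ?_, by simp⟩
    rw [Groth.Agent.Lib.PointDim.Basic.trdeg_residueFieldMap,
      Groth.Agent.Lib.PointDim.Basic.tdeg_eq_natTdeg,
      (Groth.Agent.Lib.PointDim.Basic.isClosed_iff_natTdeg_eq_zero _ x).mp
        (Set.subsingleton_of_subsingleton.isClosed)]
  have : QuasiCompact (_root_.WeilCoh.sm (toPt X)) := ‹QuasiCompact X.obj.hom›
  have h := tr_clCyc_map_mul T (toPt X) δ hδ (fun _ => (0 : ℤ)) hδ0 α 1
  rw [map_one, mul_one, mul_one] at h
  rw [← h, clCyc_eq_sum T _ {ptPoint}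
    (fun z _ => Finset.mem_coe.mpr (Finset.mem_singleton.mpr (Subsingleton.elim _ _))),
    Finset.sum_singleton, map_smul, (T.point (ptVar k) dim_ptVar).1,
    (T.point (ptVar k) dim_ptVar).2, smul_eq_mul, mul_one]
  rfl

theorem clCyc_mem (δ : ↥X.obj.left → ℤ) (hδ : Cyc.DeltaCompat X.obj.hom δ (fun _ => 0))
    (r : ℤ) (α : AlgebraicCycle X.obj.left ℤ) (hα : α ∈ Cyc.Zk X.obj.left δ r) :
    T.clCyc X α ∈ T.gr X (2 * (_root_.WeilCoh.dim X.obj.left : ℤ) - 2 * r) := by
  rw [clCyc_eq_sum T α (finite_support α).toFinset (by simp)]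
  refine Submodule.sum_mem _ fun ξ hξ => Submodule.smul_mem _ _ (cl_mem_of_eq T ξ ?_)
  rw [Set.Finite.mem_toFinset] at hξ
  by_contra hne
  refine hξ (hα ξ fun hr => hne ?_)
  rw [← hr, pdim_eq_natTdeg, Groth.Agent.Lib.PointDim.Basic.delta_eq_natTdeg _ _ hδ]

end Groth.Agent.Lib.WeilCoh.Classes
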