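import Groth.Agent.Lib.WeilCoh.Classes
import Mathlib.LinearAlgebra.Trace
import Mathlib.LinearAlgebra.FreeModule.Finite.Basic

/-!
# Correspondences and the trace formula

* dual families for Poincaré duality;
* a class on `X × Y` is determined by its action, every family of maps is an action;
* `tr (φ · σ^*ψ) = Σ (-1)^i trace (ψ ∘ φ | H^i)`; the classes of transposed graphs act by pull-back.
-/

set_option linter.unusedSectionVars false

universe u v w

open CategoryTheory AlgebraicGeometry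

noncomputable section

namespace Groth.Agent.Lib.WeilCoh.Corr

open Groth.Agent.Lib.WeilCoh.Formal

variable {k : Type u} [Field k] {P₀ : ObjectProperty (Over (Spec (CommRingCat.of k)))}
variable {K : Type v} [Field K] (T : _root_.WeilCoh.TheoryOn.{u, v, w} k P₀ K)
variable {X Y P P' : P₀.FullSubcategory}

/-- A basis of `H^i(X)`. -/
def grBasis (X : P₀.FullSubcategory) (i : ℤ) :
    Module.Basis (Fin (Module.finrank K (T.gr X i))) K (T.gr X i) :=
  Module.finBasis K _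

/-- The family of `H^{2 dim X - i}(X)` dual to `grBasis`, pairing from the right. -/
def rightDual (X : P₀.FullSubcategory) (i : ℤ) (l : Fin (Module.finrank K (T.gr X i))) :
    T.gr X (2 * (_root_.WeilCoh.dim X.obj.left : ℤ) - i) :=
  haveI := T.duality X i (2 * (_root_.WeilCoh.dim X.obj.left : ℤ) - i) (by omega)
  (_root_.WeilCoh.pairing K (T.gr X i) (T.gr X (2 * (_root_.WeilCoh.dim X.obj.left : ℤ) - i))
    (T.tr X)).flip.toPerfPair.symm ((grBasis T X i).coord l)

theorem tr_mul_rightDual {i : ℤ} (x : T.gr X i) (l : Fin (Module.finrank K (T.gr X i))) :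
    T.tr X ((x : T.H X) * (rightDual T X i l : T.H X)) = (grBasis T X i).repr x l := by
  have := T.duality X i (2 * (_root_.WeilCoh.dim X.obj.left : ℤ) - i) (by omega)
  exact LinearMap.apply_toPerfPair_flip
    (_root_.WeilCoh.pairing K (T.gr X i) (T.gr X (2 * (_root_.WeilCoh.dim X.obj.left : ℤ) - i))
      (T.tr X)) ((grBasis T X i).coord l) x

theorem sum_tr_smul {i : ℤ} (x : T.gr X i) :
    ∑ l, T.tr X ((x : T.H X) * (rightDual T X i l : T.H X)) • (grBasis T X i l : T.H X) = x := by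
  simp_rw [tr_mul_rightDual T x]
  conv_rhs => rw [← (grBasis T X i).sum_repr x]
  push_cast
  rfl

/-- The action `x ↦ q_* (p^* x · φ)`. -/
def act (p : P ⟶ X) (q : P ⟶ Y) {m : ℤ} (φ : T.gr P m) (i : ℤ) :
    T.gr X i →ₗ[K] T.gr Y (i + m + 2 * (_root_.WeilCoh.dim Y.obj.left : ℤ) -
      2 * (_root_.WeilCoh.dim P.obj.left : ℤ)) :=
  (T.push q (i + m)) ∘ₗ ((LinearMap.mulRight K (φ : T.H P)).restrict (p := T.gr P i)
    (q := T.gr P (i + m)) (fun _ hx => SetLike.mul_mem_graded hx φ.2)) ∘ₗ T.pullDeg p i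

/-- The defining property of the action. -/
theorem tr_act_mul (p : P ⟶ X) (q : P ⟶ Y) {m : ℤ} (φ : T.gr P m) (i : ℤ) (x : T.gr X i) {y : T.H Y}
    (hy : y ∈ T.gr Y (2 * (_root_.WeilCoh.dim P.obj.left : ℤ) - (i + m))) :
    T.tr Y ((act T p q φ i x : T.H Y) * y) = T.tr P (T.pull p x * φ * T.pull q y) :=
  tr_push_mul T q (i + m) _ hy

theorem act_apply_mem (p : P ⟶ X) (q : P ⟶ Y) {m : ℤ} (φ : T.gr P m) (i : ℤ) (x : T.gr X i) :
    (act T p q φ i x : T.H Y) ∈ T.gr Y (i + m + 2 * (_root_.WeilCoh.dim Y.obj.left : ℤ) -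
      2 * (_root_.WeilCoh.dim P.obj.left : ℤ)) := (act T p q φ i x).2

theorem eq_zero_of_forall_pairing (p : P ⟶ X) (q : P ⟶ Y) (hP : _root_.WeilCoh.IsProd p q) {m : ℤ}
    {z : T.H P} (hz : z ∈ T.gr P m)
    (H : ∀ (i : ℤ) (x : T.H X) (y : T.H Y), x ∈ T.gr X i →
      y ∈ T.gr Y (2 * (_root_.WeilCoh.dim P.obj.left : ℤ) - (i + m)) →
      T.tr P (z * (T.pull p x * T.pull q y)) = 0) : z = 0 := by
  refine eq_zero_of_forall_tr_mul T (j := 2 * (_root_.WeilCoh.dim P.obj.left : ℤ) - m) (by omega) hz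
    fun b hb => ?_
  rw [← extSpan_eq T p q hP] at hb
  refine (Submodule.span_le (p := LinearMap.ker ((T.tr P).comp (LinearMap.mulLeft K z)))).mpr ?_ hb
  rintro _ ⟨i, x, y, hx, hy, rfl⟩
  exact H i x y hx (cast_mem T hy (by omega))

theorem mul_pull_eq (p : P ⟶ X) {m i : ℤ} {z : T.H P} (hz : z ∈ T.gr P m) {x : T.H X}
    (hx : x ∈ T.gr X i) (w : T.H P) :
    T.tr P (z * (T.pull p x * w)) =
      (-1 : K) ^ (m.natAbs * i.natAbs) * T.tr P (T.pull p x * z * w) := by
  rw [← mul_assoc, mul_eq_neg_one_pow T hz (T.pull_mem p i x hx), smul_mul_assoc, map_smul, smul_eq_mul]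

theorem eq_of_forall_act (p : P ⟶ X) (q : P ⟶ Y) (hP : _root_.WeilCoh.IsProd p q) {m : ℤ}
    (φ φ' : T.gr P m) (H : ∀ i, act T p q φ i = act T p q φ' i) : φ = φ' := by
  refine Subtype.ext (sub_eq_zero.mp ?_)
  refine eq_zero_of_forall_pairing T p q hP (sub_mem φ.2 φ'.2) fun i x y hx hy => ?_
  rw [sub_mul, map_sub, sub_eq_zero, mul_pull_eq T p φ.2 hx, mul_pull_eq T p φ'.2 hx]
  have h1 := tr_act_mul T p q φ i ⟨x, hx⟩ hy
  have h2 := tr_act_mul T p q φ' i ⟨x, hx⟩ hy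
  rw [H i] at h1
  rw [← h1, ← h2]

/-- The class acting as the family `L`. -/
def ofFamily (p : P ⟶ X) (q : P ⟶ Y) (m : ℤ)
    (L : ∀ i, T.gr X i →ₗ[K] T.gr Y (i + m + 2 * (_root_.WeilCoh.dim Y.obj.left : ℤ) -
      2 * (_root_.WeilCoh.dim P.obj.left : ℤ))) : T.H P :=
  ∑ i ∈ Finset.range (2 * _root_.WeilCoh.dim X.obj.left + 1), ∑ l,
    T.pull p (rightDual T X i l : T.H X) * T.pull q (L i (grBasis T X i l) : T.H Y)

theorem ofFamily_mem (p : P ⟶ X) (q : P ⟶ Y) (hP : _root_.WeilCoh.IsProd p q) (m : ℤ)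
    (L : ∀ i, T.gr X i →ₗ[K] T.gr Y (i + m + 2 * (_root_.WeilCoh.dim Y.obj.left : ℤ) -
      2 * (_root_.WeilCoh.dim P.obj.left : ℤ))) : ofFamily T p q m L ∈ T.gr P m := by
  have := dim_prod T p q hP
  exact sum_mem fun i _ => sum_mem fun l _ =>
    mul_mem' T (T.pull_mem p _ _ (rightDual T X i l).2) (T.pull_mem q _ _ (L i _).2) (by omega)

theorem tr_ofFamily (p : P ⟶ X) (q : P ⟶ Y) (hP : _root_.WeilCoh.IsProd p q) (m : ℤ)
    (L : ∀ i, T.gr X i →ₗ[K] T.gr Y (i + m + 2 * (_root_.WeilCoh.dim Y.obj.left : ℤ) -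
      2 * (_root_.WeilCoh.dim P.obj.left : ℤ)))
    (i : ℤ) (x : T.gr X i) {y : T.H Y} :
    T.tr P (T.pull p x * ofFamily T p q m L * T.pull q y) = T.tr Y ((L i x : T.H Y) * y) := by
  have hd := dim_prod T p q hP
  simp only [ofFamily, Finset.mul_sum, Finset.sum_mul, map_sum]
  by_cases hi : 0 ≤ i ∧ i ≤ 2 * (_root_.WeilCoh.dim X.obj.left : ℤ)
  · obtain ⟨n, rfl⟩ := Int.eq_ofNat_of_zero_le hi.1
    rw [Finset.sum_eq_single n]
    · rw [show (∑ l, T.tr P (T.pull p x * (T.pull p (rightDual T X n l : T.H X) *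
          T.pull q (L n (grBasis T X n l) : T.H Y)) * T.pull q y)) =
        ∑ l, T.tr X ((x : T.H X) * (rightDual T X n l : T.H X)) *
          T.tr Y ((L n (grBasis T X n l) : T.H Y) * y) from Finset.sum_congr rfl fun l _ => by
            rw [← mul_assoc, ← map_mul, mul_assoc, ← map_mul, tr_prod' T p q hP hd]]
      simp_rw [← smul_eq_mul (T.tr X _) _, ← map_smul, ← smul_mul_assoc]
      rw [← map_sum, ← Finset.sum_mul]
      congr 2
      conv_rhs => rw [show x = ∑ l, T.tr X ((x : T.H X) * (rightDual T X n l : T.H X)) •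
        grBasis T X n l from Subtype.ext (by push_cast; exact (sum_tr_smul T x).symm)]
      rw [map_sum]
      simp
    · intro j _ hj
      refine Finset.sum_eq_zero fun l _ => ?_
      rw [← mul_assoc, ← map_mul, mul_assoc, ← map_mul, tr_prod' T p q hP hd,
        T.tr_vanish X _ _ (mul_mem T x.2 (rightDual T X j l).2) (by omega), zero_mul]
    · intro h
      exact absurd (Finset.mem_range.mpr (by omega)) h
  · have hx : (x : T.H X) = 0 := eq_zero_of_mem_of_gt T x.2 (by omega)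
    rw [show x = 0 from Subtype.ext hx]
    simp

theorem exists_act_eq (p : P ⟶ X) (q : P ⟶ Y) (hP : _root_.WeilCoh.IsProd p q) (m : ℤ)
    (L : ∀ i, T.gr X i →ₗ[K] T.gr Y (i + m + 2 * (_root_.WeilCoh.dim Y.obj.left : ℤ) -
      2 * (_root_.WeilCoh.dim P.obj.left : ℤ))) :
    act T p q ⟨ofFamily T p q m L, ofFamily_mem T p q hP m L⟩ = L := by
  funext i
  refine LinearMap.ext fun x => Subtype.ext ?_
  refine eq_of_forall_tr_mul T (j := 2 * (_root_.WeilCoh.dim P.obj.left : ℤ) - (i + m)) (by omega)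
    (act_apply_mem T p q _ i x) (L i x).2 fun y hy => ?_
  rw [tr_act_mul T p q _ i x hy]
  exact tr_ofFamily T p q hP m L i x

/-- The trace is invariant under the swap. -/
theorem tr_pull_swap (p : P ⟶ X) (q : P ⟶ Y) (hP : _root_.WeilCoh.IsProd p q) (p' : P' ⟶ Y)
    (q' : P' ⟶ X) (hP' : _root_.WeilCoh.IsProd p' q') (σ : P ⟶ P') (hσ₁ : σ ≫ p' = q)
    (hσ₂ : σ ≫ q' = p) (z : T.H P') : T.tr P (T.pull σ z) = T.tr P' z := by
  have hd := dim_prod T p q hP
  have hd' := dim_prod T p' q' hP'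
  refine LinearMap.congr_fun (hom_ext T (φ := (T.tr P).comp (T.pull σ).toLinearMap) (ψ := T.tr P')
    fun m a ha => ?_) z
  show T.tr P (T.pull σ a) = T.tr P' a
  rw [← extSpan_eq T p' q' hP'] at ha
  refine sub_eq_zero.mp ((Submodule.span_le (p := LinearMap.ker
    ((T.tr P).comp (T.pull σ).toLinearMap - T.tr P'))).mpr ?_ ha)
  rintro _ ⟨i, x, y, hx, hy, rfl⟩
  show T.tr P (T.pull σ (T.pull p' x * T.pull q' y)) - T.tr P' (T.pull p' x * T.pull q' y) = 0
  rw [map_mul (T.pull σ), ← AlgHom.comp_apply, ← AlgHom.comp_apply, ← T.pull_comp, ← T.pull_comp, hσ₁,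
    hσ₂, mul_eq_neg_one_pow T (T.pull_mem q i x hx) (T.pull_mem p _ y hy), map_smul,
    tr_prod' T p q hP hd, tr_prod' T p' q' hP' hd', smul_eq_mul, sub_eq_zero]
  by_cases hi : i = 2 * (_root_.WeilCoh.dim Y.obj.left : ℤ)
  · have hev : Even (i.natAbs * (m - i).natAbs) :=
      (Int.natAbs_even.mpr ⟨_, hi.trans (two_mul _)⟩).mul_right _
    rw [hev.neg_one_pow, one_mul, mul_comm]
  · rw [T.tr_vanish Y i x hx hi]; simp

/-- The trace formula for a pair of correspondences in opposite directions. -/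
theorem tr_mul_pull_swap (p : P ⟶ X) (q : P ⟶ Y) (hP : _root_.WeilCoh.IsProd p q) (p' : P' ⟶ Y)
    (q' : P' ⟶ X) (hP' : _root_.WeilCoh.IsProd p' q') (σ : P ⟶ P') (hσ₁ : σ ≫ p' = q)
    (hσ₂ : σ ≫ q' = p) {m m' : ℤ} (φ : T.gr P m) (ψ : T.gr P' m')
    (hm : m + m' = 2 * (_root_.WeilCoh.dim P.obj.left : ℤ))
    (A : ∀ n : ℕ, Module.End K (T.gr X (n : ℤ)))
    (hA : ∀ (n : ℕ) (x : T.gr X (n : ℤ)),
      (A n x : T.H X) = (act T p' q' ψ _ (act T p q φ n x) : T.H X)) :
    T.tr P ((φ : T.H P) * T.pull σ (ψ : T.H P')) =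
      ∑ n ∈ Finset.range (2 * _root_.WeilCoh.dim X.obj.left + 1),
        (-1 : K) ^ n * LinearMap.trace K (T.gr X (n : ℤ)) (A n) := by
  have hd := dim_prod T p q hP
  have hd' := dim_prod T p' q' hP'
  have hφ : φ = ⟨ofFamily T p q m (act T p q φ), ofFamily_mem T p q hP m _⟩ :=
    eq_of_forall_act T p q hP _ _ fun i => (congrFun (exists_act_eq T p q hP m (act T p q φ)) i).symm
  conv_lhs => rw [show (φ : T.H P) = ofFamily T p q m (act T p q φ) from congrArg Subtype.val hφ]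
  simp only [ofFamily, Finset.sum_mul, map_sum]
  refine Finset.sum_congr rfl fun n hn => ?_
  rw [Finset.mem_range] at hn
  rw [LinearMap.trace_eq_matrix_trace K (grBasis T X n), Matrix.trace, Finset.mul_sum]
  refine Finset.sum_congr rfl fun l _ => ?_
  rw [Matrix.diag_apply, LinearMap.toMatrix_apply, ← tr_mul_rightDual T, hA,
    tr_act_mul T p' q' ψ _ _ (cast_mem T (rightDual T X n l).2 (by omega))]
  set f := (rightDual T X n l : T.H X) with hf
  set y := act T p q φ (n : ℤ) (grBasis T X n l) with hy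
  rw [← tr_pull_swap T p q hP p' q' hP' σ hσ₁ hσ₂]
  rw [map_mul (T.pull σ), map_mul (T.pull σ), ← AlgHom.comp_apply, ← AlgHom.comp_apply,
    ← T.pull_comp, ← T.pull_comp, hσ₁, hσ₂, mul_assoc,
    mul_eq_neg_one_pow T (T.pull_mem p _ f (rightDual T X n l).2)
      (mul_mem' T (T.pull_mem q _ _ y.2) (T.pull_mem σ _ _ ψ.2) rfl), map_smul, smul_eq_mul]
  congr 1
  apply neg_one_pow_congr
  rw [Nat.even_mul, Int.natAbs_even, Int.natAbs_even]
  have hmm : Even m' ↔ Even m := by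
    have h2 : Even (m + m') := ⟨_, hm.trans (two_mul _)⟩
    exact (Int.even_add.mp h2).symm
  simp only [parity_simps, Int.even_coe_nat, even_two, true_or, hmm]
  tauto

end Groth.Agent.Lib.WeilCoh.Corr
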