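import Groth.Prelude.Def_WeilCoh
import Mathlib.LinearAlgebra.Dual.Lemmas
import Mathlib.LinearAlgebra.FiniteDimensional.Basic

/-!
# Formal consequences of the conditions on a Weil cohomology theory

Poincaré duality in the form "classes are determined by traces", the characterisation of the
push-forward, `H^0 = K`, and the behaviour of products (`dim`, trace of exterior products, spanning).
-/

universe u v w

open CategoryTheory AlgebraicGeometry

noncomputable section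

namespace Groth.Agent.Lib.WeilCoh.Formal

variable {k : Type u} [Field k] {P : ObjectProperty (Over (Spec (CommRingCat.of k)))}
variable {K : Type v} [Field K] (T : _root_.WeilCoh.TheoryOn.{u, v, w} k P K)
variable {X Y Z Q : P.FullSubcategory}

theorem mul_mem {i j : ℤ} {a b : T.H X} (ha : a ∈ T.gr X i) (hb : b ∈ T.gr X j) :
    a * b ∈ T.gr X (i + j) := SetLike.mul_mem_graded ha hb

theorem mul_mem' {i j m : ℤ} {a b : T.H X} (ha : a ∈ T.gr X i) (hb : b ∈ T.gr X j) (h : i + j = m) :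
    a * b ∈ T.gr X m := h ▸ mul_mem T ha hb

theorem cast_mem {i j : ℤ} {a : T.H X} (ha : a ∈ T.gr X i) (h : i = j) : a ∈ T.gr X j := h ▸ ha

theorem eq_zero_of_forall_tr_mul {i j : ℤ} (h : i + j = 2 * (_root_.WeilCoh.dim X.obj.left : ℤ)) {a : T.H X}
    (ha : a ∈ T.gr X i) (H : ∀ b ∈ T.gr X j, T.tr X (a * b) = 0) : a = 0 := by
  have := T.duality X i j h
  have h0 : (⟨a, ha⟩ : T.gr X i) = 0 := by
    refine (LinearMap.IsPerfPair.bijective_left (_root_.WeilCoh.pairing K (T.gr X i) (T.gr X j) (T.tr X))).1 ?_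
    refine LinearMap.ext fun b => ?_
    simpa [_root_.WeilCoh.pairing] using H b b.2
  exact congrArg Subtype.val h0

theorem eq_of_forall_tr_mul {i j : ℤ} (h : i + j = 2 * (_root_.WeilCoh.dim X.obj.left : ℤ)) {a a' : T.H X}
    (ha : a ∈ T.gr X i) (ha' : a' ∈ T.gr X i)
    (H : ∀ b ∈ T.gr X j, T.tr X (a * b) = T.tr X (a' * b)) : a = a' := by
  refine sub_eq_zero.mp (eq_zero_of_forall_tr_mul T h (sub_mem ha ha') fun b hb => ?_)
  rw [sub_mul, map_sub, H b hb, sub_self]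

theorem eq_zero_of_forall_tr_mul_right {i j : ℤ} (h : i + j = 2 * (_root_.WeilCoh.dim X.obj.left : ℤ)) {b : T.H X}
    (hb : b ∈ T.gr X j) (H : ∀ a ∈ T.gr X i, T.tr X (a * b) = 0) : b = 0 := by
  have := T.duality X i j h
  have h0 : (⟨b, hb⟩ : T.gr X j) = 0 := by
    refine (LinearMap.IsPerfPair.bijective_right (_root_.WeilCoh.pairing K (T.gr X i) (T.gr X j) (T.tr X))).1 ?_
    refine LinearMap.ext fun a => ?_
    simpa [_root_.WeilCoh.pairing] using H a a.2
  exact congrArg Subtype.val h0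

/-- The characterisation of the push-forward. -/
theorem tr_push_mul (f : X ⟶ Y) (i : ℤ) (a : T.gr X i) {b : T.H Y}
    (hb : b ∈ T.gr Y (2 * (_root_.WeilCoh.dim X.obj.left : ℤ) - i)) :
    T.tr Y ((T.push f i a : T.H Y) * b) = T.tr X ((a : T.H X) * T.pull f b) := by
  have := T.duality Y (i + 2 * (_root_.WeilCoh.dim Y.obj.left : ℤ) - 2 * (_root_.WeilCoh.dim X.obj.left : ℤ)) (2 * (_root_.WeilCoh.dim X.obj.left : ℤ) - i) (by omega)
  have h := LinearMap.congr_fun (LinearMap.apply_symm_toPerfPair_self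
    (p := _root_.WeilCoh.pairing K (T.gr Y (i + 2 * (_root_.WeilCoh.dim Y.obj.left : ℤ) - 2 * (_root_.WeilCoh.dim X.obj.left : ℤ)))
      (T.gr Y (2 * (_root_.WeilCoh.dim X.obj.left : ℤ) - i)) (T.tr Y)) (T.pushFunctional f i a)) ⟨b, hb⟩
  exact h

theorem push_eq_of_forall (f : X ⟶ Y) (i : ℤ) (a : T.gr X i) {c : T.H Y}
    (hc : c ∈ T.gr Y (i + 2 * (_root_.WeilCoh.dim Y.obj.left : ℤ) - 2 * (_root_.WeilCoh.dim X.obj.left : ℤ)))
    (H : ∀ b ∈ T.gr Y (2 * (_root_.WeilCoh.dim X.obj.left : ℤ) - i), T.tr Y (c * b) = T.tr X ((a : T.H X) * T.pull f b)) :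
    (T.push f i a : T.H Y) = c :=
  eq_of_forall_tr_mul T (i := i + 2 * (_root_.WeilCoh.dim Y.obj.left : ℤ) - 2 * (_root_.WeilCoh.dim X.obj.left : ℤ)) (j := 2 * (_root_.WeilCoh.dim X.obj.left : ℤ) - i) (by omega)
    (T.push f i a).2 hc fun b hb => by rw [tr_push_mul T f i a hb, H b hb]

theorem exists_top (X : P.FullSubcategory) :
    ∃ a ∈ T.gr X (2 * (_root_.WeilCoh.dim X.obj.left : ℤ)), T.tr X a = 1 := by
  obtain ⟨a, ha⟩ := (T.tr_bijective X).2 1
  exact ⟨a, a.2, ha⟩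

theorem eq_of_tr_eq {a b : T.H X} (ha : a ∈ T.gr X (2 * (_root_.WeilCoh.dim X.obj.left : ℤ))) (hb : b ∈ T.gr X (2 * (_root_.WeilCoh.dim X.obj.left : ℤ)))
    (h : T.tr X a = T.tr X b) : a = b :=
  congrArg Subtype.val ((T.tr_bijective X).1 (a₁ := ⟨a, ha⟩) (a₂ := ⟨b, hb⟩) h)

theorem one_ne_zero' (X : P.FullSubcategory) : (1 : T.H X) ≠ 0 := by
  intro h
  obtain ⟨a, -, ha⟩ := exists_top T X
  rw [← one_mul a, h, zero_mul, map_zero] at ha
  exact zero_ne_one ha

theorem one_mem (X : P.FullSubcategory) : (1 : T.H X) ∈ T.gr X 0 := SetLike.one_mem_graded _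

theorem algebraMap_mem (X : P.FullSubcategory) (c : K) : algebraMap K (T.H X) c ∈ T.gr X 0 := by
  rw [Algebra.algebraMap_eq_smul_one]; exact (T.gr X 0).smul_mem c (one_mem T X)

/-- The trace as an equivalence on the top degree. -/
def trEquiv (X : P.FullSubcategory) : T.gr X (2 * (_root_.WeilCoh.dim X.obj.left : ℤ)) ≃ₗ[K] K :=
  LinearEquiv.ofBijective _ (T.tr_bijective X)

theorem finrank_eq_of_add (i j : ℤ) (h : i + j = 2 * (_root_.WeilCoh.dim X.obj.left : ℤ)) :
    Module.finrank K (T.gr X i) = Module.finrank K (T.gr X j) := by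
  have := T.duality X i j h
  rw [(_root_.WeilCoh.pairing K (T.gr X i) (T.gr X j) (T.tr X)).toPerfPair.finrank_eq,
    Subspace.dual_finrank_eq]

theorem finrank_gr_zero (X : P.FullSubcategory) : Module.finrank K (T.gr X 0) = 1 := by
  rw [finrank_eq_of_add T 0 (2 * (_root_.WeilCoh.dim X.obj.left : ℤ)) (zero_add _), (trEquiv T X).finrank_eq, Module.finrank_self]

theorem exists_smul_one {a : T.H X} (ha : a ∈ T.gr X 0) : ∃ c : K, a = c • (1 : T.H X) := by
  have h1 : (⟨1, one_mem T X⟩ : T.gr X 0) ≠ 0 := fun h =>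
    one_ne_zero' T X (congrArg Subtype.val h)
  obtain ⟨c, hc⟩ := (finrank_eq_one_iff_of_nonzero' _ h1).mp (finrank_gr_zero T X) ⟨a, ha⟩
  exact ⟨c, (congrArg Subtype.val hc).symm⟩

theorem smul_one_injective (X : P.FullSubcategory) : Function.Injective fun c : K => c • (1 : T.H X) :=
  fun c d h => by
    by_contra hne
    have : (c - d) • (1 : T.H X) = 0 := by rw [sub_smul]; exact sub_eq_zero.mpr h
    exact one_ne_zero' T X ((smul_eq_zero.mp this).resolve_left (sub_ne_zero.mpr hne))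

theorem mul_comm_of_even_left {i j : ℤ} {a b : T.H X} (ha : a ∈ T.gr X i) (hb : b ∈ T.gr X j)
    (h : Even i) : a * b = b * a := by
  rw [T.gradedComm X i j a b ha hb, (h.natAbs.mul_right _).neg_one_pow, one_smul]

theorem mul_comm_of_even_right {i j : ℤ} {a b : T.H X} (ha : a ∈ T.gr X i) (hb : b ∈ T.gr X j)
    (h : Even j) : a * b = b * a := (mul_comm_of_even_left T hb ha h).symm

theorem mul_eq_neg_one_pow {i j : ℤ} {a b : T.H X} (ha : a ∈ T.gr X i) (hb : b ∈ T.gr X j) :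
    a * b = ((-1 : K) ^ (i.natAbs * j.natAbs)) • (b * a) := T.gradedComm X i j a b ha hb

/-- Linear maps out of `H X` agree as soon as they agree on homogeneous classes. -/
theorem hom_ext {M : Type*} [AddCommMonoid M] [Module K M] {φ ψ : T.H X →ₗ[K] M}
    (h : ∀ (i : ℤ), ∀ a ∈ T.gr X i, φ a = ψ a) : φ = ψ := by
  refine LinearMap.ext_on (s := ⋃ i, (T.gr X i : Set (T.H X))) ?_ ?_
  · rw [Submodule.span_iUnion]
    simpa using (T.decomp X).submodule_iSup_eq_top
  · rintro a ⟨_, ⟨i, rfl⟩, ha⟩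
    exact h i a ha

theorem eq_zero_of_mem_of_gt {i : ℤ} {a : T.H X} (ha : a ∈ T.gr X i)
    (h : i < 0 ∨ 2 * (_root_.WeilCoh.dim X.obj.left : ℤ) < i) : a = 0 := by
  rw [T.vanish X i h] at ha
  exact ha

/-- The trace of an exterior product, with no degree assumption. -/
theorem tr_prod' (p : Q ⟶ X) (q : Q ⟶ Y) (hQ : _root_.WeilCoh.IsProd p q)
    (hdim : (_root_.WeilCoh.dim Q.obj.left : ℤ) = (_root_.WeilCoh.dim X.obj.left : ℤ) + (_root_.WeilCoh.dim Y.obj.left : ℤ)) (a : T.H X) (b : T.H Y) :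
    T.tr Q (T.pull p a * T.pull q b) = T.tr X a * T.tr Y b := by
  let φ : T.H X →ₗ[K] T.H Y →ₗ[K] K :=
    ((LinearMap.mul K (T.H Q)).compl₁₂ (T.pull p).toLinearMap (T.pull q).toLinearMap).compr₂ (T.tr Q)
  let ψ : T.H X →ₗ[K] T.H Y →ₗ[K] K := (LinearMap.mul K K).compl₁₂ (T.tr X) (T.tr Y)
  suffices φ = ψ from LinearMap.congr_fun (LinearMap.congr_fun this a) b
  refine hom_ext T fun i a ha => hom_ext T fun j b hb => ?_
  show T.tr Q (T.pull p a * T.pull q b) = T.tr X a * T.tr Y b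
  by_cases hi : i = 2 * (_root_.WeilCoh.dim X.obj.left : ℤ)
  · by_cases hj : j = 2 * (_root_.WeilCoh.dim Y.obj.left : ℤ)
    · exact T.tr_prod p q hQ a b (hi ▸ ha) (hj ▸ hb)
    · rw [T.tr_vanish Y j b hb hj, mul_zero]
      exact T.tr_vanish Q (i + j) _ (mul_mem T (T.pull_mem p i a ha) (T.pull_mem q j b hb))
        (by show ¬ _ = 2 * (_root_.WeilCoh.dim Q.obj.left : ℤ); omega)
  · rw [T.tr_vanish X i a ha hi, zero_mul]
    by_cases hij : i + j = 2 * (_root_.WeilCoh.dim Q.obj.left : ℤ)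
    · by_cases hlt : 2 * (_root_.WeilCoh.dim X.obj.left : ℤ) < i
      · rw [eq_zero_of_mem_of_gt T ha (Or.inr hlt), map_zero, zero_mul, map_zero]
      · rw [eq_zero_of_mem_of_gt T hb (Or.inr (by omega)), map_zero, mul_zero, map_zero]
    · exact T.tr_vanish Q (i + j) _ (mul_mem T (T.pull_mem p i a ha) (T.pull_mem q j b hb)) hij

/-- The span of the exterior products of homogeneous classes of total degree `m`. -/
def extSpan (p : Q ⟶ X) (q : Q ⟶ Y) (m : ℤ) : Submodule K (T.H Q) :=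
  Submodule.span K {x | ∃ (i : ℤ) (a : T.H X) (b : T.H Y), a ∈ T.gr X i ∧ b ∈ T.gr Y (m - i) ∧
    x = T.pull p a * T.pull q b}

theorem extSpan_le (p : Q ⟶ X) (q : Q ⟶ Y) (m : ℤ) : extSpan T p q m ≤ T.gr Q m := by
  refine Submodule.span_le.mpr ?_
  rintro x ⟨i, a, b, ha, hb, rfl⟩
  exact mul_mem' T (T.pull_mem p i a ha) (T.pull_mem q _ b hb) (by omega)

theorem iSup_extSpan (p : Q ⟶ X) (q : Q ⟶ Y) (hQ : _root_.WeilCoh.IsProd p q) :
    ⨆ m, extSpan T p q m = ⊤ := by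
  refine eq_top_iff.mpr fun x _ => ?_
  obtain ⟨t, rfl⟩ := (T.kunneth p q hQ).2 x
  induction t using TensorProduct.induction_on with
  | zero => simp
  | add s t hs ht => rw [map_add]; exact add_mem (hs trivial) (ht trivial)
  | tmul a b =>
    let μ : T.H X →ₗ[K] T.H Y →ₗ[K] (T.H Q ⧸ ⨆ m, extSpan T p q m) :=
      ((LinearMap.mul K (T.H Q)).compl₁₂ (T.pull p).toLinearMap
        (T.pull q).toLinearMap).compr₂ (Submodule.mkQ _)
    have : μ = 0 := by
      refine hom_ext T fun i a ha => hom_ext T fun j b hb => ?_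
      refine (Submodule.Quotient.mk_eq_zero _).mpr (Submodule.mem_iSup_of_mem (i + j) ?_)
      exact Submodule.subset_span ⟨i, a, b, ha, cast_mem T hb (by omega), rfl⟩
    exact (Submodule.Quotient.mk_eq_zero _).mp (LinearMap.congr_fun (LinearMap.congr_fun this a) b)

/-- Each `H^m(Q)` is spanned by exterior products of total degree `m`. -/
theorem extSpan_eq (p : Q ⟶ X) (q : Q ⟶ Y) (hQ : _root_.WeilCoh.IsProd p q) (m : ℤ) :
    extSpan T p q m = T.gr Q m := by
  refine le_antisymm (extSpan_le T p q m) fun x hx => ?_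
  have htop : x ∈ ⨆ n, extSpan T p q n := by rw [iSup_extSpan T p q hQ]; trivial
  rw [iSup_split_single (extSpan T p q) m, Submodule.mem_sup] at htop
  obtain ⟨y, hy, z, hz, rfl⟩ := htop
  have hz1 : z ∈ T.gr Q m := by simpa using sub_mem hx (extSpan_le T p q m hy)
  have hz2 : z ∈ ⨆ (n) (_ : n ≠ m), T.gr Q n :=
    (iSup₂_mono fun n _ => extSpan_le T p q n) hz
  have : z = 0 := Submodule.disjoint_def.mp ((T.decomp Q).submodule_iSupIndep m) z hz1 hz2
  rwa [this, add_zero]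

/-- `dim (X × Y) = dim X + dim Y`, a consequence of Künneth and duality. -/
theorem dim_prod (T : _root_.WeilCoh.TheoryOn.{u, v, w} k P K) (p : Q ⟶ X) (q : Q ⟶ Y)
    (hQ : _root_.WeilCoh.IsProd p q) : (_root_.WeilCoh.dim Q.obj.left : ℤ) = (_root_.WeilCoh.dim X.obj.left : ℤ) + (_root_.WeilCoh.dim Y.obj.left : ℤ) := by
  obtain ⟨a, ha, ha1⟩ := exists_top T X
  obtain ⟨b, hb, hb1⟩ := exists_top T Y
  have h1 := T.tr_prod p q hQ a b ha hb
  rw [ha1, hb1, mul_one] at h1
  have hle : 2 * (_root_.WeilCoh.dim X.obj.left : ℤ) + 2 * (_root_.WeilCoh.dim Y.obj.left : ℤ) = 2 * (_root_.WeilCoh.dim Q.obj.left : ℤ) := by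
    by_contra hne
    rw [T.tr_vanish Q _ _ (mul_mem T (T.pull_mem p _ a ha) (T.pull_mem q _ b hb)) hne] at h1
    exact zero_ne_one h1
  omega

end Groth.Agent.Lib.WeilCoh.Formal
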