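import Groth.Agent.Lib.WeilCoh.Formal
import Mathlib.LinearAlgebra.Charpoly.ToMatrix
import Mathlib.LinearAlgebra.Matrix.Charpoly.Coeff
import Mathlib.LinearAlgebra.Matrix.ToLinearEquiv
import Mathlib.LinearAlgebra.Determinant

/-!
# An endomorphism multiplying traces by a constant: determinants and characteristic polynomials
-/

universe u v w

open CategoryTheory AlgebraicGeometry Polynomial

noncomputable section

namespace Groth.Agent.Lib.WeilCoh.FuncEq

section LinAlg

variable {K : Type*} [Field K] {V W : Type*} [AddCommGroup V] [Module K V] [AddCommGroup W]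
  [Module K W] [FiniteDimensional K V] [FiniteDimensional K W]

theorem charpoly_dualMap (f : V →ₗ[K] V) : f.dualMap.charpoly = f.charpoly := by
  classical
  let b := Module.finBasis K V
  rw [← LinearMap.charpoly_toMatrix f b, ← LinearMap.charpoly_toMatrix f.dualMap b.dualBasis]
  simp [LinearMap.dualMap_def, LinearMap.toMatrix_transpose, Matrix.charpoly_transpose]

theorem exists_conj {B : V →ₗ[K] W →ₗ[K] K} [B.IsPerfPair] {A : Module.End K V} {D : Module.End K W}
    {c : K} (h : ∀ v w, B (A v) (D w) = c * B v w) :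
    ∃ Dv : Module.End K V, Dv * A = c • 1 ∧ LinearMap.det Dv = LinearMap.det D ∧
      Dv.charpoly = D.charpoly := by
  let e := B.toPerfPair
  refine ⟨e.symm.conj D.dualMap, ?_, ?_, ?_⟩
  · refine LinearMap.ext fun v => e.injective (LinearMap.ext fun w => ?_)
    simp [e, LinearEquiv.conj_apply, h]
  · rw [LinearEquiv.conj_apply, LinearMap.comp_assoc, LinearMap.det_conj, LinearMap.det_dualMap]
  · rw [LinearEquiv.charpoly_conj, charpoly_dualMap]

theorem det_mul_det {B : V →ₗ[K] W →ₗ[K] K} [B.IsPerfPair] {A : Module.End K V} {D : Module.End K W}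
    {c : K} (h : ∀ v w, B (A v) (D w) = c * B v w) :
    LinearMap.det D * LinearMap.det A = c ^ Module.finrank K V := by
  obtain ⟨Dv, h1, h2, -⟩ := exists_conj h
  rw [← h2, ← map_mul, h1, LinearMap.det_smul, map_one, mul_one]

theorem det_smul_charpolyRev {n : Type*} [Fintype n] [DecidableEq n] (M A : Matrix n n K) {c : K}
    (h : M * A = c • 1) :
    A.det • M.charpolyRev = (-1) ^ Fintype.card n * A.charpoly.comp (C c * X) := by
  have hM : M.map C * A.map C = C c • (1 : Matrix n n K[X]) := by
    rw [← Matrix.map_mul, h]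
    ext i j
    by_cases hij : i = j <;> simp [hij, Matrix.one_apply]
  calc A.det • M.charpolyRev
      = (1 - (X : K[X]) • M.map C).det * (A.map C).det := by
        rw [Matrix.charpolyRev, Polynomial.smul_eq_C_mul, mul_comm, RingHom.map_det]; rfl
    _ = (A.map C - ((C c * X : K[X]) • 1)).det := by
        rw [← Matrix.det_mul, Matrix.sub_mul, Matrix.one_mul, Matrix.smul_mul, hM, smul_smul, mul_comm X]
    _ = (-1) ^ Fintype.card n * ((compRingHom (C c * X)).mapMatrix (Matrix.charmatrix A)).det := by
        rw [← Matrix.det_neg]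
        congr 1
        ext i j
        by_cases hij : i = j <;> simp [hij, Matrix.charmatrix_apply, Matrix.one_apply]
    _ = _ := by rw [← RingHom.map_det]; rfl

theorem det_smul_reverse_charpoly {B : V →ₗ[K] W →ₗ[K] K} [B.IsPerfPair] {A : Module.End K V}
    {D : Module.End K W} {c : K} (h : ∀ v w, B (A v) (D w) = c * B v w) :
    LinearMap.det A • D.charpoly.reverse =
      (-1) ^ Module.finrank K V * A.charpoly.comp (C c * X) := by
  obtain ⟨Dv, h1, -, h3⟩ := exists_conj h
  let b := Module.finBasis K V
  rw [← h3, ← LinearMap.charpoly_toMatrix Dv b, ← LinearMap.charpoly_toMatrix A b,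
    ← LinearMap.det_toMatrix b, Matrix.reverse_charpoly,
    det_smul_charpolyRev _ _ (c := c) (by
      rw [← LinearMap.toMatrix_mul, h1, map_smul, LinearMap.toMatrix_one]), Fintype.card_fin]

theorem even_finrank_of_alternating {B : V →ₗ[K] V →ₗ[K] K} [B.IsPerfPair] [CharZero K]
    (h : ∀ v w, B v w = -B w v) : Even (Module.finrank K V) := by
  classical
  let b := Module.finBasis K V
  by_contra hodd
  rw [Nat.not_even_iff_odd] at hodd
  let M : Matrix _ _ K := Matrix.of fun i j => B (b i) (b j)
  have hT : M.transpose = -M := by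
    ext i j; simp [M, h (b j) (b i)]
  have hdet : M.det = 0 := by
    have := congrArg Matrix.det hT
    rw [Matrix.det_transpose, Matrix.det_neg, Fintype.card_fin, hodd.neg_one_pow, neg_one_mul] at this
    linear_combination this / 2
  obtain ⟨v, hv, hvM⟩ := Matrix.exists_vecMul_eq_zero_iff.mpr hdet
  have hx : B.toPerfPair (∑ i, v i • b i) = 0 := by
    refine b.ext fun j => ?_
    simpa [M, Matrix.vecMul, dotProduct] using congrFun hvM j
  rw [map_eq_zero_iff _ B.toPerfPair.injective] at hx
  exact hv (funext fun i => Fintype.linearIndependent_iff.mp b.linearIndependent v hx i)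

end LinAlg

variable {k : Type u} [Field k] {P : ObjectProperty (Over (Spec (CommRingCat.of k)))}
variable {K : Type v} [Field K] {T : _root_.WeilCoh.TheoryOn.{u, v, w} k P K}
variable {X : P.FullSubcategory} {F : X ⟶ X} {c : K}

theorem pairing_pullDeg (hN : ∀ a, T.tr X (T.pull F a) = c * T.tr X a) (i j : ℤ)
    (v : T.gr X i) (w : T.gr X j) :
    _root_.WeilCoh.pairing K (T.gr X i) (T.gr X j) (T.tr X) (T.pullDeg F i v) (T.pullDeg F j w) =
      c * _root_.WeilCoh.pairing K (T.gr X i) (T.gr X j) (T.tr X) v w := by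
  show T.tr X (T.pull F (v : T.H X) * T.pull F (w : T.H X)) = c * T.tr X ((v : T.H X) * w)
  rw [← map_mul, hN]

theorem det_pullDeg_compl_mul (hN : ∀ a, T.tr X (T.pull F a) = c * T.tr X a) (i : ℤ) :
    LinearMap.det (T.pullDeg F (2 * (_root_.WeilCoh.dim X.obj.left : ℤ) - i)) *
      LinearMap.det (T.pullDeg F i) = c ^ Module.finrank K ↥(T.gr X i) :=
  haveI := T.duality X i (2 * (_root_.WeilCoh.dim X.obj.left : ℤ) - i) (by omega)
  det_mul_det (pairing_pullDeg hN i _)

theorem det_smul_charpolyRev_compl (hN : ∀ a, T.tr X (T.pull F a) = c * T.tr X a) (i : ℤ) :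
    LinearMap.det (T.pullDeg F i) •
        (LinearMap.charpoly (T.pullDeg F (2 * (_root_.WeilCoh.dim X.obj.left : ℤ) - i))).reverse =
      (-1 : K[X]) ^ Module.finrank K ↥(T.gr X i) *
        (LinearMap.charpoly (T.pullDeg F i)).comp (C c * Polynomial.X) :=
  haveI := T.duality X i (2 * (_root_.WeilCoh.dim X.obj.left : ℤ) - i) (by omega)
  det_smul_reverse_charpoly (pairing_pullDeg hN i _)

/-- The middle Betti number of an odd dimensional object is even. -/
theorem even_finrank_middle [CharZero K] (T : _root_.WeilCoh.TheoryOn.{u, v, w} k P K) (X : P.FullSubcategory)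
    (h : Odd (_root_.WeilCoh.dim X.obj.left)) :
    Even (Module.finrank K ↥(T.gr X (_root_.WeilCoh.dim X.obj.left : ℤ))) := by
  haveI := T.duality X (_root_.WeilCoh.dim X.obj.left : ℤ) _ (two_mul _).symm
  refine even_finrank_of_alternating (B := _root_.WeilCoh.pairing K _ _ (T.tr X)) fun v w => ?_
  show T.tr X ((v : T.H X) * w) = -T.tr X ((w : T.H X) * v)
  rw [Formal.mul_eq_neg_one_pow T v.2 w.2, Int.natAbs_natCast, (h.mul h).neg_one_pow]
  simp

end Groth.Agent.Lib.WeilCoh.FuncEq
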