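import Groth.Agent.Lib.WeilCoh.FuncEq
import Mathlib.FieldTheory.RatFunc.AsPolynomial
import Mathlib.Algebra.Polynomial.Reverse
import Mathlib.Algebra.BigOperators.Intervals

/-!
# The functional equation of the cohomological zeta function
-/

universe u v w

open Polynomial CategoryTheory AlgebraicGeometry

noncomputable section

namespace Groth.Agent.Lib.WeilCoh.FuncEqZeta

theorem sum_alternating (n : ℕ) (f : ℕ → ℤ) :
    ∑ i ∈ Finset.range (2 * n + 1), (-1) ^ i * f i =
      (∑ i ∈ Finset.range (n + 1), f (2 * i)) - ∑ i ∈ Finset.range n, f (2 * i + 1) := by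
  induction n with
  | zero => simp
  | succ n ih =>
    rw [show 2 * (n + 1) + 1 = (2 * n + 1) + 1 + 1 by ring, Finset.sum_range_succ,
      Finset.sum_range_succ _ (2 * n + 1), ih,
      Finset.sum_range_succ (fun i => f (2 * i)) (n + 1),
      Finset.sum_range_succ (fun i => f (2 * i + 1)) n]
    simp [pow_succ, pow_mul]
    ring_nf

theorem even_sum_range_of_symm (m : ℕ) (f : ℕ → ℕ) (h : ∀ i < 2 * m, f (2 * m - 1 - i) = f i) :
    Even (∑ i ∈ Finset.range (2 * m), f i) := by
  refine ⟨∑ i ∈ Finset.range m, f i, ?_⟩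
  rw [two_mul m, Finset.sum_range_add]
  congr 1
  conv_lhs => rw [← Finset.sum_range_reflect]
  refine Finset.sum_congr rfl fun i hi => ?_
  rw [Finset.mem_range] at hi
  rw [← h i (by omega)]
  congr 1
  omega

theorem even_sum_range_of_symm_odd (m : ℕ) (f : ℕ → ℕ) (h : ∀ i < 2 * m + 1, f (2 * m - i) = f i)
    (hm : Even (f m)) : Even (∑ i ∈ Finset.range (2 * m + 1), f i) := by
  rw [show 2 * m + 1 = m + (m + 1) by omega, Finset.sum_range_add, Finset.sum_range_succ']
  have : ∑ i ∈ Finset.range m, f (m + (i + 1)) = ∑ i ∈ Finset.range m, f i := by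
    conv_lhs => rw [← Finset.sum_range_reflect]
    refine Finset.sum_congr rfl fun i hi => ?_
    rw [Finset.mem_range] at hi
    rw [← h i (by omega)]
    congr 1
    omega
  rw [this, ← add_assoc]
  exact Even.add ⟨_, rfl⟩ hm

variable {K : Type v} [Field K]

theorem aeval_inv_X (p : K[X]) :
    aeval (RatFunc.X : RatFunc K)⁻¹ p =
      algebraMap K[X] (RatFunc K) p.reverse * (RatFunc.X : RatFunc K)⁻¹ ^ p.natDegree := by
  letI := invertibleOfNonzero (inv_ne_zero (RatFunc.X_ne_zero (K := K)))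
  have h := eval₂_reverse_mul_pow (algebraMap K (RatFunc K)) (RatFunc.X : RatFunc K)⁻¹ p
  rw [invOf_eq_inv, inv_inv] at h
  rw [← RatFunc.aeval_X_left_eq_algebraMap]
  exact h.symm

/-- The abstract functional equation, for `n` and even `n * E`. -/
theorem functional_equation [CharZero K] (n : ℕ) (q : K) (hq : q ≠ 0) (B : ℕ → ℕ) (d : ℕ → K)
    (χ : ℕ → K[X]) (hB : ∀ i, i ≤ 2 * n → B (2 * n - i) = B i) (hdeg : ∀ i, (χ i).natDegree = B i)
    (hd : ∀ i, i ≤ 2 * n → d (2 * n - i) * d i = (q ^ n) ^ B i)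
    (hP : ∀ i, i ≤ 2 * n →
      d i • (χ (2 * n - i)).reverse = (-1 : K[X]) ^ B i * (χ i).comp (C (q ^ n) * X))
    (hmid : Odd n → Even (B n)) :
    ∃ ε : K, (ε = 1 ∨ ε = -1) ∧
      aeval ((RatFunc.X : RatFunc K)⁻¹ * RatFunc.C (q ^ n)⁻¹)
          (∏ i ∈ Finset.range n, (χ (2 * i + 1)).reverse) /
        aeval ((RatFunc.X : RatFunc K)⁻¹ * RatFunc.C (q ^ n)⁻¹)
          (∏ i ∈ Finset.range (n + 1), (χ (2 * i)).reverse) =
      RatFunc.C ε * RatFunc.C q ^ ((n : ℤ) * (∑ i ∈ Finset.range (2 * n + 1), (-1 : ℤ) ^ i * (B i : ℤ)) / 2) *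
        (RatFunc.X : RatFunc K) ^ (∑ i ∈ Finset.range (2 * n + 1), (-1 : ℤ) ^ i * (B i : ℤ)) *
        (algebraMap K[X] (RatFunc K) (∏ i ∈ Finset.range n, (χ (2 * i + 1)).reverse) /
         algebraMap K[X] (RatFunc K) (∏ i ∈ Finset.range (n + 1), (χ (2 * i)).reverse)) := by
  set c := q ^ n with hc
  have hc0 : c ≠ 0 := pow_ne_zero _ hq
  have hd0 : ∀ i, i ≤ 2 * n → d i ≠ 0 := fun i hi h0 => by
    have := hd i hi; rw [h0, mul_zero] at this; exact pow_ne_zero _ hc0 this.symm
  set x := (RatFunc.X : RatFunc K)⁻¹ * RatFunc.C c⁻¹ with hx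
  set P : ℕ → RatFunc K := fun i => algebraMap K[X] (RatFunc K) (χ i).reverse
  set Y := (RatFunc.X : RatFunc K)⁻¹
  have key : ∀ i, i ≤ 2 * n → aeval x (χ (2 * n - i)).reverse =
      RatFunc.C ((-1) ^ B i / d i) * Y ^ B i * P i := by
    intro i hi
    have h := congrArg (aeval x) (hP i hi)
    have hx' : aeval x (C c * X) = Y := by
      simp only [map_mul, aeval_C, aeval_X, hx, RatFunc.algebraMap_eq_C]
      rw [mul_left_comm, ← map_mul, mul_inv_cancel₀ hc0, map_one, mul_one]
    rw [Polynomial.smul_eq_C_mul, map_mul, aeval_C, map_mul, map_pow, map_neg, map_one,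
      aeval_comp, hx', aeval_inv_X, hdeg, RatFunc.algebraMap_eq_C] at h
    rw [map_div₀, map_pow, map_neg, map_one, div_mul_eq_mul_div, div_mul_eq_mul_div,
      eq_div_iff (RatFunc.C_injective.ne (hd0 i hi) |> fun h => by simpa using h), mul_comm, h]
    ring
  have hodd : ∏ i ∈ Finset.range n, aeval x (χ (2 * i + 1)).reverse =
      RatFunc.C (∏ i ∈ Finset.range n, (-1) ^ B (2 * i + 1) / d (2 * i + 1)) *
        Y ^ (∑ i ∈ Finset.range n, B (2 * i + 1)) * ∏ i ∈ Finset.range n, P (2 * i + 1) := by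
    rw [map_prod, ← Finset.prod_pow_eq_pow_sum, ← Finset.prod_mul_distrib, ← Finset.prod_mul_distrib]
    conv_lhs => rw [← Finset.prod_range_reflect]
    refine Finset.prod_congr rfl fun i hi => ?_
    rw [Finset.mem_range] at hi
    rw [show 2 * (n - 1 - i) + 1 = 2 * n - (2 * i + 1) by omega, key _ (by omega)]
  have heven : ∏ i ∈ Finset.range (n + 1), aeval x (χ (2 * i)).reverse =
      RatFunc.C (∏ i ∈ Finset.range (n + 1), (-1) ^ B (2 * i) / d (2 * i)) *
        Y ^ (∑ i ∈ Finset.range (n + 1), B (2 * i)) * ∏ i ∈ Finset.range (n + 1), P (2 * i) := by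
    rw [map_prod, ← Finset.prod_pow_eq_pow_sum, ← Finset.prod_mul_distrib, ← Finset.prod_mul_distrib]
    conv_lhs => rw [← Finset.prod_range_reflect]
    refine Finset.prod_congr rfl fun i hi => ?_
    rw [Finset.mem_range] at hi
    rw [show 2 * (n + 1 - 1 - i) = 2 * n - 2 * i by omega, key _ (by omega)]
  set So := ∑ i ∈ Finset.range n, B (2 * i + 1)
  set Se := ∑ i ∈ Finset.range (n + 1), B (2 * i)
  set E : ℤ := ∑ i ∈ Finset.range (2 * n + 1), (-1 : ℤ) ^ i * (B i : ℤ) with hEdef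
  have hE : E = (Se : ℤ) - So := by
    rw [hEdef, sum_alternating]; simp [Se, So]
  have hnE : Even ((n : ℤ) * E) := by
    rcases Nat.even_or_odd n with he | ho
    · exact Even.mul_right (by exact_mod_cast he) _
    refine Even.mul_left ?_ _
    obtain ⟨m, hm⟩ := ho
    have h1 : Even Se := by
      have := even_sum_range_of_symm (m + 1) (fun i => B (2 * i)) fun i hi => by
        show B _ = B _
        rw [← hB (2 * i) (by omega)]; congr 1; omega
      simpa [Se, show n + 1 = 2 * (m + 1) by omega] using this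
    have h2 : Even So := by
      have := even_sum_range_of_symm_odd m (fun i => B (2 * i + 1)) (fun i hi => by
        show B _ = B _
        rw [← hB (2 * i + 1) (by omega)]; congr 1; omega) (by
        have := hmid ⟨m, hm⟩; rwa [hm] at this)
      simpa [So, show n = 2 * m + 1 by omega] using this
    rw [hE]
    exact Even.sub (by exact_mod_cast h1) (by exact_mod_cast h2)
  set co := ∏ i ∈ Finset.range n, (-1 : K) ^ B (2 * i + 1) / d (2 * i + 1)
  set ce := ∏ i ∈ Finset.range (n + 1), (-1 : K) ^ B (2 * i) / d (2 * i)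
  have hco : co * co = (c ^ So)⁻¹ := by
    simp only [co, So]
    conv_lhs => arg 2; rw [← Finset.prod_range_reflect]
    rw [← Finset.prod_mul_distrib, ← Finset.prod_pow_eq_pow_sum, ← Finset.prod_inv_distrib]
    refine Finset.prod_congr rfl fun i hi => ?_
    rw [Finset.mem_range] at hi
    rw [show 2 * (n - 1 - i) + 1 = 2 * n - (2 * i + 1) by omega, hB _ (by omega), div_mul_div_comm,
      ← pow_add, Even.neg_one_pow ⟨_, rfl⟩, mul_comm (d _), hd _ (by omega), one_div]
  have hce : ce * ce = (c ^ Se)⁻¹ := by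
    simp only [ce, Se]
    conv_lhs => arg 2; rw [← Finset.prod_range_reflect]
    rw [← Finset.prod_mul_distrib, ← Finset.prod_pow_eq_pow_sum, ← Finset.prod_inv_distrib]
    refine Finset.prod_congr rfl fun i hi => ?_
    rw [Finset.mem_range] at hi
    rw [show 2 * (n + 1 - 1 - i) = 2 * n - 2 * i by omega, hB _ (by omega), div_mul_div_comm,
      ← pow_add, Even.neg_one_pow ⟨_, rfl⟩, mul_comm (d _), hd _ (by omega), one_div]
  obtain ⟨m, hm⟩ := hnE
  have hm2 : (n : ℤ) * E / 2 = m := by omega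
  set ε := co / ce / q ^ m with hε
  have hε2 : ε * ε = 1 := by
    rw [hε, div_mul_div_comm, div_mul_div_comm, hco, hce, ← zpow_add₀ hq, ← hm,
      div_eq_iff (zpow_ne_zero _ hq), one_mul, inv_div_inv, hc, hE, zpow_mul, zpow_natCast,
      zpow_sub₀ (pow_ne_zero _ hq), zpow_natCast, zpow_natCast]
  refine ⟨ε, mul_self_eq_one_iff.mp hε2, ?_⟩
  rw [map_prod (aeval (R := K) x), map_prod (aeval (R := K) x), hodd, heven, mul_div_mul_comm, map_prod (algebraMap K[X] (RatFunc K)),
    map_prod (algebraMap K[X] (RatFunc K)), hm2, ← map_zpow₀, ← map_mul,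
    hε, div_mul_cancel₀ _ (zpow_ne_zero _ hq), hE]
  congr 1
  rw [mul_div_mul_comm, ← map_div₀]
  congr 1
  rw [zpow_sub₀ RatFunc.X_ne_zero, zpow_natCast, zpow_natCast, inv_pow, inv_pow, inv_div_inv]

end Groth.Agent.Lib.WeilCoh.FuncEqZeta
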