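import Groth.Agent.S13056
import Groth.Agent.Lib.Zeta.ExpSeries
import Groth.Prelude.Def_W4c1zetahwZeta
import Mathlib.LinearAlgebra.Charpoly.ToMatrix
import Mathlib.LinearAlgebra.Trace
import Mathlib.Algebra.BigOperators.Field

/-!
# From alternating sums of traces to the zeta function
-/

universe u v

open CategoryTheory AlgebraicGeometry Groth.Agent.Lib.Zeta.ExpSeries

noncomputable section

namespace Groth.Agent.Lib.WeilCoh.ZetaCoh

variable {K : Type v} [Field K] [CharZero K]

/-- `Σ tr (A ^ m) t ^ m / m`. -/
def traceLog {V : Type*} [AddCommGroup V] [Module K V] (A : Module.End K V) : PowerSeries K :=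
  PowerSeries.mk fun m => LinearMap.trace K V (A ^ m) / (m : K)

theorem constantCoeff_traceLog {V : Type*} [AddCommGroup V] [Module K V] (A : Module.End K V) :
    PowerSeries.constantCoeff (traceLog A) = 0 := by
  simp [traceLog, ← PowerSeries.coeff_zero_eq_constantCoeff_apply]

theorem coe_reverse_charpoly {V : Type*} [AddCommGroup V] [Module K V] [FiniteDimensional K V]
    (A : Module.End K V) : ((A.charpoly.reverse : Polynomial K) : PowerSeries K) = expS (-traceLog A) := by
  classical
  let b := Module.finBasis K V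
  rw [← LinearMap.charpoly_toMatrix A b, Matrix.reverse_charpoly, Groth.Agent.S13056.result]
  congr 1
  ext n
  simp only [traceLog, map_neg, PowerSeries.coeff_mk, neg_div]
  rw [LinearMap.trace_eq_matrix_trace K b (A ^ n),
    show LinearMap.toMatrix b b (A ^ n) = LinearMap.toMatrix b b A ^ n from
      map_pow (LinearMap.toMatrixAlgEquiv b) A n]

theorem sum_alternating (n : ℕ) (f : ℕ → K) :
    ∑ i ∈ Finset.range (2 * n + 1), (-1 : K) ^ i * f i =
      (∑ i ∈ Finset.range (n + 1), f (2 * i)) - ∑ i ∈ Finset.range n, f (2 * i + 1) := by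
  induction n with
  | zero => simp
  | succ n ih =>
    rw [show 2 * (n + 1) + 1 = (2 * n + 1) + 1 + 1 by ring, Finset.sum_range_succ,
      Finset.sum_range_succ _ (2 * n + 1), ih,
      Finset.sum_range_succ (fun i => f (2 * i)) (n + 1),
      Finset.sum_range_succ (fun i => f (2 * i + 1)) n]
    simp [pow_succ, pow_mul]
    ring_nf

/-- If the numbers `N m` are alternating sums of traces, `exp (Σ N m t ^ m / m)` is the alternating
product of the reversed characteristic polynomials. -/
theorem zeta_mul_prod_eq (n : ℕ) {V : ℕ → Type*} [∀ i, AddCommGroup (V i)] [∀ i, Module K (V i)]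
    [∀ i, FiniteDimensional K (V i)] (A : ∀ i, Module.End K (V i)) (N : ℕ → ℕ)
    (h : ∀ m, m ≠ 0 → (N m : K) =
      ∑ i ∈ Finset.range (2 * n + 1), (-1 : K) ^ i * LinearMap.trace K (V i) (A i ^ m)) :
    PowerSeries.map (algebraMap ℚ K) (expS (PowerSeries.mk fun m => (N m : ℚ) / m)) *
        (∏ i ∈ Finset.range (n + 1), ((A (2 * i)).charpoly.reverse : PowerSeries K)) =
      ∏ i ∈ Finset.range n, ((A (2 * i + 1)).charpoly.reverse : PowerSeries K) := by
  have hlog : PowerSeries.map (algebraMap ℚ K) (PowerSeries.mk fun m => (N m : ℚ) / m) =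
      ∑ i ∈ Finset.range (n + 1), traceLog (A (2 * i)) - ∑ i ∈ Finset.range n, traceLog (A (2 * i + 1)) := by
    ext m
    rcases eq_or_ne m 0 with rfl | hm
    · simp [traceLog, map_sum]
    rw [PowerSeries.coeff_map, PowerSeries.coeff_mk, map_sub, map_sum, map_sum, map_div₀, map_natCast,
      map_natCast, h m hm]
    simp only [traceLog, PowerSeries.coeff_mk]
    rw [← Finset.sum_div, ← Finset.sum_div, ← sub_div]
    congr 1
    exact sum_alternating n fun i => LinearMap.trace K (V i) (A i ^ m)
  have h0 : PowerSeries.constantCoeff (PowerSeries.mk fun m => (N m : ℚ) / m) = 0 := by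
    simp [← PowerSeries.coeff_zero_eq_constantCoeff_apply]
  rw [map_expS _ h0, hlog]
  simp_rw [coe_reverse_charpoly]
  rw [← expS_sum _ _ (fun i _ => by simp [constantCoeff_traceLog]),
    ← expS_sum _ _ (fun i _ => by simp [constantCoeff_traceLog]),
    ← expS_add (by simp [map_sum, constantCoeff_traceLog]) (by simp [map_sum, constantCoeff_traceLog])]
  congr 1
  simp only [Finset.sum_neg_distrib]
  abel

/-- A power series with rational coefficients which is a rational function over `K` is one over `ℚ`. -/
theorem rational_descent (Z : PowerSeries ℚ) (P Q : Polynomial K) (hQ : Q.coeff 0 = 1)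
    (h : PowerSeries.map (algebraMap ℚ K) Z * (Q : PowerSeries K) = (P : PowerSeries K)) :
    ∃ P' Q' : Polynomial ℚ, Q' ≠ 0 ∧ Z * (Q' : PowerSeries ℚ) = (P' : PowerSeries ℚ) := by
  obtain ⟨l, hl⟩ := LinearMap.exists_leftInverse_of_injective (Algebra.linearMap ℚ K)
    (LinearMap.ker_eq_bot.mpr (algebraMap ℚ K).injective)
  have hl' : ∀ a : ℚ, l (algebraMap ℚ K a) = a := fun a => congr($hl a)
  let T : Polynomial K → Polynomial ℚ := fun R =>
    ∑ i ∈ Finset.range (R.natDegree + 1), Polynomial.monomial i (l (R.coeff i))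
  have hT : ∀ (R : Polynomial K) i, (T R).coeff i = l (R.coeff i) := by
    intro R i
    simp only [T, Polynomial.finsetSum_coeff, Polynomial.coeff_monomial, Finset.sum_ite_eq', Finset.mem_range]
    by_cases hi : i < R.natDegree + 1
    · rw [if_pos hi]
    · rw [if_neg hi, Polynomial.coeff_eq_zero_of_natDegree_lt (by omega), map_zero]
  refine ⟨T P, T Q, fun e => ?_, ?_⟩
  · have := congrArg (fun R => Polynomial.coeff R 0) e
    simp only [hT, hQ, Polynomial.coeff_zero] at this
    rw [← map_one (algebraMap ℚ K), hl'] at this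
    exact one_ne_zero this
  · ext m
    have hm := congrArg (fun S => l (PowerSeries.coeff m S)) h
    simp only [PowerSeries.coeff_mul, PowerSeries.coeff_map, Polynomial.coeff_coe, map_sum] at hm
    rw [PowerSeries.coeff_mul, Polynomial.coeff_coe, hT]
    refine Eq.trans (Finset.sum_congr rfl fun x _ => ?_) hm
    rw [Polynomial.coeff_coe, hT, ← smul_eq_mul, ← map_smul, Algebra.smul_def]

end Groth.Agent.Lib.WeilCoh.ZetaCoh
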